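import Cfsg.Agent.Lib.Base.MinimalNormal
import Cfsg.Agent.Lib.Transfer.Tate
import Cfsg.Agent.Lib.PGroups.Basic

/-!
# Sylow subgroups with abelianisation of order `p²`

If `[P : P'] = p²`, `O_{p'}(G) = 1`, `P'` is core-free and `G` is not almost simple then some
`p`-element of `G` has centraliser with Sylow `p`-subgroup of order `p²`.
-/

set_option autoImplicit false
set_option linter.style.haveILetI false
set_option linter.unusedSectionVars false

namespace CfsgLib.MaxClassCent

open Cfsg Subgroup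
open scoped commutatorElement

variable {G : Type*} [Group G] [Finite G] {p : ℕ} [hp : Fact p.Prime]

omit [Finite G] hp in
/-- Commutators with a subgroup of cyclic quotient control the whole commutator subgroup. -/
theorem commutator_le_of {P Q K : Subgroup G} {u : G} (hu : u ∈ P) (hgen : P ≤ zpowers u ⊔ Q)
    (hQP : Q ≤ P) (hK : K ≤ Q) (hQn : ∀ b ∈ P, ∀ q ∈ Q, b * q * b⁻¹ ∈ Q)
    (hc : ∀ q ∈ Q, ∀ b ∈ P, ⁅q, b⁆ ∈ K) : ⁅P, P⁆ ≤ K := by
  have hKn : ∀ b ∈ P, ∀ k ∈ K, b * k * b⁻¹ ∈ K := by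
    intro b hb k hk
    have h := mul_mem (inv_mem (hc k (hK hk) b hb)) hk
    have e : (⁅k, b⁆)⁻¹ * k = b * k * b⁻¹ := by rw [commutatorElement_def]; group
    rwa [e] at h
  haveI : (K.subgroupOf P).Normal :=
    ⟨fun k hk b => hKn b b.2 k hk⟩
  let q : (P : Subgroup G) →* ↥P ⧸ K.subgroupOf P := QuotientGroup.mk' _
  have hcen : ∀ a : P, (a : G) ∈ Q → ∀ b : P, q a * q b = q b * q a := by
    intro a ha b
    rw [← commutatorElement_eq_one_iff_mul_comm, ← map_commutatorElement]
    exact (QuotientGroup.eq_one_iff _).2 (mem_subgroupOf.2 (hc a ha b b.2))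
  let U : Subgroup P := (centralizer ({q ⟨u, hu⟩} : Set (↥P ⧸ K.subgroupOf P))).comap q
  have hall : ∀ a : P, ∀ b : P, q a * q b = q b * q a := by
    have hspan : (⊤ : Subgroup P) ≤ zpowers ⟨u, hu⟩ ⊔ Q.subgroupOf P := by
      intro a _
      have h : P ≤ (zpowers (⟨u, hu⟩ : P) ⊔ Q.subgroupOf P).map P.subtype := by
        rw [Subgroup.map_sup, MonoidHom.map_zpowers, subgroupOf_map_subtype]
        exact hgen.trans (sup_le_sup_left (le_inf le_rfl hQP) _)
      obtain ⟨a', ha', hea⟩ := h a.2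
      rwa [← Subtype.ext hea]
    have hu' : ∀ b : P, q ⟨u, hu⟩ * q b = q b * q ⟨u, hu⟩ := by
      intro b
      have h : (⊤ : Subgroup P) ≤ U := hspan.trans (sup_le (zpowers_le.2 (mem_comap.2
        (mem_centralizer_singleton_iff.2 rfl))) fun a ha => mem_comap.2
          (mem_centralizer_singleton_iff.2 (hcen a (mem_subgroupOf.1 ha) _)))
      exact (mem_centralizer_singleton_iff.1 (mem_comap.1 (h (mem_top b)))).symm
    intro a b
    have h : (⊤ : Subgroup P) ≤ (center (↥P ⧸ K.subgroupOf P)).comap q := by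
      refine hspan.trans (sup_le (zpowers_le.2 ?_) fun a ha => ?_)
      · rw [mem_comap, mem_center_iff]
        intro z
        obtain ⟨b, rfl⟩ := QuotientGroup.mk'_surjective _ z
        exact (hu' b).symm
      · rw [mem_comap, mem_center_iff]
        intro z
        obtain ⟨b, rfl⟩ := QuotientGroup.mk'_surjective _ z
        exact (hcen a (mem_subgroupOf.1 ha) b).symm
    exact (mem_center_iff.1 (mem_comap.1 (h (mem_top a))) (q b)).symm
  rw [commutator_le]
  intro a ha b hb
  have h : q ⁅(⟨a, ha⟩ : P), ⟨b, hb⟩⁆ = 1 := by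
    rw [map_commutatorElement, commutatorElement_eq_one_iff_mul_comm]
    exact hall _ _
  exact mem_subgroupOf.1 ((QuotientGroup.eq_one_iff _).1 h)

/-- A `p`-group whose abelianisation has order at most `p` is abelian. -/
theorem comm_of_relIndex_le {R : Subgroup G} (hR : IsPGroup p R)
    (h : (⁅R, R⁆).relIndex R ≤ p) : ∀ a ∈ R, ∀ b ∈ R, a * b = b * a := by
  classical
  have hidx : (commutator ↥R).index ≤ p := by
    have e : (commutator ↥R).index = (⁅R, R⁆).relIndex R := by
      rw [relIndex, ← map_subtype_commutator, subgroupOf,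
        comap_map_eq_self_of_injective R.subtype_injective]
    rwa [e]
  obtain ⟨k, hk⟩ := hR.index (commutator ↥R)
  have hgen : ∃ x : R, zpowers x ⊔ commutator ↥R = ⊤ := by
    by_cases htop : commutator ↥R = ⊤
    · exact ⟨1, by simp [htop]⟩
    obtain ⟨x, -, hx⟩ := SetLike.exists_of_lt (lt_top_iff_ne_top.2 htop)
    refine ⟨x, ?_⟩
    have hle : commutator ↥R ≤ zpowers x ⊔ commutator ↥R := le_sup_right
    have hkp : (commutator ↥R).index = p := by
      rcases Nat.lt_or_ge k 2 with hk2 | hk2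
      · interval_cases k
        · exact absurd (index_eq_one.1 (by simpa using hk)) htop
        · simpa using hk
      · have h1 : p ^ 2 ≤ p ^ k := Nat.pow_le_pow_right hp.out.pos hk2
        have h2 : p < p ^ 2 := by nlinarith [hp.out.one_lt]
        omega
    have h1 := relIndex_mul_index hle
    rw [hkp] at h1
    rcases hp.out.eq_one_or_self_of_dvd _ (Dvd.intro _ h1) with h3 | h3
    · exact absurd (relIndex_eq_one.1 h3 (mem_sup_left (mem_zpowers x))) hx
    · rw [h3] at h1
      exact index_eq_one.1 (Nat.eq_of_mul_eq_mul_left hp.out.pos (by rw [h1, mul_one]))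
  obtain ⟨x, hx⟩ := hgen
  have htop : zpowers x = ⊤ := frattini_nongenerating
    (top_le_iff.1 (hx ▸ sup_le_sup_left (CfsgLib.PGroups.commutator_le_frattini hR) _))
  intro a ha b hb
  obtain ⟨i, hi⟩ := mem_zpowers_iff.1 (htop ▸ mem_top (⟨a, ha⟩ : R))
  obtain ⟨j, hj⟩ := mem_zpowers_iff.1 (htop ▸ mem_top (⟨b, hb⟩ : R))
  have h := congrArg Subtype.val ((Commute.refl x).zpow_zpow i j).eq
  rw [hi, hj] at h
  exact h

/-- `T` is a factor of `N`: minimal among the nontrivial subgroups of `N` normalised by `N`. -/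
def IsFactor (N T : Subgroup G) : Prop :=
  T ≠ ⊥ ∧ T ≤ N ∧ N ≤ normalizer (T : Set G) ∧
    ∀ K : Subgroup G, K ≠ ⊥ → K ≤ T → N ≤ normalizer (K : Set G) → K = T

theorem exists_factor {N : Subgroup G} (hN : N ≠ ⊥) : ∃ T, IsFactor N T := by
  obtain ⟨T, ⟨h1, h2, h3⟩, hmin⟩ := Set.Finite.exists_minimal
    (s := {K : Subgroup G | K ≠ ⊥ ∧ K ≤ N ∧ N ≤ normalizer (K : Set G)}) (Set.toFinite _)
    ⟨N, hN, le_rfl, le_normalizer⟩
  exact ⟨T, h1, h2, h3, fun K hK hKT hKn =>
    le_antisymm hKT (hmin ⟨hK, hKT.trans h2, hKn⟩ hKT)⟩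

theorem mem_map_conj {H : Subgroup G} {g x : G} :
    x ∈ H.map (MulAut.conj g).toMonoidHom ↔ g⁻¹ * x * g ∈ H := by
  rw [Subgroup.mem_map_equiv, MulAut.conj_symm_apply]

theorem IsFactor.conj {N T : Subgroup G} [hN : N.Normal] (h : IsFactor N T) (g : G) :
    IsFactor N (T.map (MulAut.conj g).toMonoidHom) := by
  obtain ⟨h1, h2, h3, h4⟩ := h
  have hnorm : ∀ (K : Subgroup G) (a : G), N ≤ normalizer (K : Set G) →
      N ≤ normalizer ((K.map (MulAut.conj a).toMonoidHom : Subgroup G) : Set G) := by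
    intro K a hK n hn
    have hn' : a⁻¹ * n * a ∈ N := by simpa using hN.conj_mem n hn a⁻¹
    have h := mem_normalizer_iff.1 (hK hn')
    rw [mem_normalizer_iff]
    intro x
    rw [mem_map_conj, mem_map_conj, h (a⁻¹ * x * a)]
    simp [mul_assoc]
  refine ⟨fun hb => h1 ((map_eq_bot_iff_of_injective _ (MulAut.conj g).injective).1 hb), ?_,
    hnorm T g h3, fun K hK hKT hKn => ?_⟩
  · intro x hx
    have := hN.conj_mem _ (h2 (mem_map_conj.1 hx)) g
    simpa [mul_assoc] using this
  · have h5 : (K.map (MulAut.conj g⁻¹).toMonoidHom) = T := by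
      refine h4 _ (fun hb => hK ((map_eq_bot_iff_of_injective _ (MulAut.conj _).injective).1 hb))
        (fun x hx => ?_) (hnorm K g⁻¹ hKn)
      have := mem_map_conj.1 (hKT (mem_map_conj.1 hx))
      simpa [mul_assoc] using this
    rw [← h5]
    ext x
    rw [mem_map_conj, mem_map_conj]
    simp [mul_assoc]

theorem IsFactor.inf_eq_bot {N T T' : Subgroup G} (h : IsFactor N T) (h' : IsFactor N T')
    (hne : T ≠ T') : T ⊓ T' = ⊥ := by
  by_contra hb
  have hn : N ≤ normalizer ((T ⊓ T' : Subgroup G) : Set G) := fun n hn => by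
    rw [mem_normalizer_iff]
    intro x
    exact and_congr (mem_normalizer_iff.1 (h.2.2.1 hn) x) (mem_normalizer_iff.1 (h'.2.2.1 hn) x)
  have e1 := h.2.2.2 _ hb inf_le_left hn
  have e2 := h'.2.2.2 _ hb inf_le_right hn
  exact hne (e1 ▸ e2)

theorem IsFactor.commute {N T T' : Subgroup G} (h : IsFactor N T) (h' : IsFactor N T')
    (hne : T ≠ T') {a b : G} (ha : a ∈ T) (hb : b ∈ T') : a * b = b * a := by
  rw [← commutatorElement_eq_one_iff_mul_comm, ← mem_bot, ← h.inf_eq_bot h' hne,
    commutatorElement_def]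
  refine ⟨?_, T'.mul_mem ((mem_normalizer_iff.1 (h'.2.2.1 (h.2.1 ha)) b).1 hb) (inv_mem hb)⟩
  have h1 := (mem_normalizer_iff.1 (h.2.2.1 (h'.2.1 hb)) a⁻¹).1 (inv_mem ha)
  have := T.mul_mem ha h1
  simpa [mul_assoc] using this

omit [Finite G] hp in
theorem normalizer_le_centralizer' {T : Subgroup G} :
    normalizer (T : Set G) ≤ normalizer ((centralizer (T : Set G) : Subgroup G) : Set G) := by
  intro g hg
  have key : ∀ a ∈ normalizer (T : Set G), ∀ c ∈ centralizer (T : Set G),
      a * c * a⁻¹ ∈ centralizer (T : Set G) := by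
    intro a ha c hc
    rw [mem_centralizer_iff]
    intro t ht
    have h1 : a⁻¹ * t * a ∈ T := by
      simpa using (mem_normalizer_iff.1 (inv_mem ha) t).1 ht
    have h2 := mem_centralizer_iff.1 hc _ h1
    calc t * (a * c * a⁻¹) = a * ((a⁻¹ * t * a) * c) * a⁻¹ := by group
      _ = a * c * a⁻¹ * t := by rw [h2]; group
  rw [mem_normalizer_iff]
  refine fun x => ⟨fun hx => key g hg x hx, fun hx => ?_⟩
  simpa [mul_assoc] using key g⁻¹ (inv_mem hg) _ hx

variable {N : Subgroup G} [hNn : N.Normal]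

/-- Whatever holds all factors contains `N`. -/
theorem le_of_factors (hmin : CfsgLib.Base.IsMinimalNormal N) {E : Subgroup G}
    (h : ∀ T, IsFactor N T → T ≤ E) : N ≤ E := by
  obtain ⟨T, hT⟩ := exists_factor hmin.ne_bot
  let C : Subgroup G := ⨆ g : G, T.map (MulAut.conj g).toMonoidHom
  have hC : C.Normal := by
    refine ⟨fun x hx a => ?_⟩
    induction hx using Subgroup.iSup_induction' with
    | hp g y hy =>
      refine mem_iSup_of_mem (a * g) ?_
      rw [mem_map_conj] at hy ⊢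
      simpa [mul_assoc] using hy
    | h1 => simp
    | hmul y z _ _ ihy ihz => simpa [mul_assoc] using C.mul_mem ihy ihz
  have hCN : C ≤ N := iSup_le fun g => (hT.conj g).2.1
  have hCne : C ≠ ⊥ := fun hb => (hT.conj 1).1 (le_bot_iff.1 (hb ▸
    le_iSup (fun g : G => T.map (MulAut.conj g).toMonoidHom) 1))
  exact ((hmin.eq_bot_or_eq hC hCN).resolve_left hCne) ▸ iSup_le fun g => h _ (hT.conj g)

theorem IsFactor.inf_centralizer (hmin : CfsgLib.Base.IsMinimalNormal N)
    (hC : centralizer (N : Set G) = ⊥) {T : Subgroup G} (hT : IsFactor N T) :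
    T ⊓ centralizer (T : Set G) = ⊥ := by
  by_contra hb
  have hn : N ≤ normalizer ((T ⊓ centralizer (T : Set G) : Subgroup G) : Set G) := fun n hn => by
    have hmem := mem_normalizer_iff.1 (CfsgLib.MaxClassCent.normalizer_le_centralizer' (hT.2.2.1 hn))
    rw [mem_normalizer_iff]
    intro x
    exact and_congr (mem_normalizer_iff.1 (hT.2.2.1 hn) x) (hmem x)
  have h1 := hT.2.2.2 _ hb inf_le_left hn
  have habel : T ≤ centralizer (T : Set G) := inf_eq_left.1 h1
  have hTN : N ≤ centralizer (T : Set G) := le_of_factors hmin fun T' hT' => by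
    rcases eq_or_ne T' T with rfl | hne
    · exact habel
    · exact fun b hb' => mem_centralizer_iff.2 fun a ha => (hT'.commute hT hne hb' ha).symm
  exact hT.1 (le_bot_iff.1 (hC ▸ le_centralizer_iff.1 hTN))

theorem IsFactor.exists_decomp (hmin : CfsgLib.Base.IsMinimalNormal N) {T : Subgroup G}
    (hT : IsFactor N T) {n : G} (hn : n ∈ N) : ∃ t ∈ T, t⁻¹ * n ∈ centralizer (T : Set G) := by
  let E : Subgroup G :=
    { carrier := {x | ∃ t ∈ T, t⁻¹ * x ∈ centralizer (T : Set G)}
      one_mem' := ⟨1, T.one_mem, by simp⟩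
      mul_mem' := by
        rintro a b ⟨s, hs, hsa⟩ ⟨t, ht, htb⟩
        refine ⟨s * t, T.mul_mem hs ht, ?_⟩
        have e : (s * t)⁻¹ * (a * b) = (s⁻¹ * a) * (t⁻¹ * b) := by
          have h := mem_centralizer_iff.1 hsa t⁻¹ (inv_mem ht)
          calc (s * t)⁻¹ * (a * b) = (t⁻¹ * (s⁻¹ * a)) * b := by group
            _ = _ := by rw [h]; group
        rw [e]; exact mul_mem hsa htb
      inv_mem' := by
        rintro a ⟨s, hs, hsa⟩
        refine ⟨s⁻¹, inv_mem hs, ?_⟩
        have e : (s⁻¹)⁻¹ * a⁻¹ = (s⁻¹ * a)⁻¹ := by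
          have h := mem_centralizer_iff.1 (inv_mem hsa) s hs
          calc (s⁻¹)⁻¹ * a⁻¹ = s * ((s⁻¹ * a)⁻¹) * s⁻¹ := by group
            _ = _ := by rw [h]; group
        rw [e]; exact inv_mem hsa }
  refine le_of_factors hmin (E := E) (fun T' hT' x hx => ?_) hn
  rcases eq_or_ne T' T with rfl | hne
  · exact ⟨x, hx, by simp⟩
  · exact ⟨1, T.one_mem, by
      simpa using mem_centralizer_iff.2 fun a ha => (hT'.commute hT hne hx ha).symm⟩

end CfsgLib.MaxClassCent
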