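import Cfsg.Agent.Lib.MaxClassCent.Basic

/-!
# Sylow subgroups with abelianisation of order `p²`: the main argument
-/

set_option autoImplicit false
set_option linter.style.haveILetI false
set_option linter.unusedSectionVars false

namespace CfsgLib.MaxClassCent

open Cfsg Subgroup
open scoped commutatorElement

variable {G : Type*} [Group G] [Finite G] {p : ℕ} [hp : Fact p.Prime]

theorem exists_mul_pow {P Q : Subgroup G} {u b : G} (hu : u ∈ P)
    (hQn : P ≤ normalizer (Q : Set G)) (hgen : P ≤ zpowers u ⊔ Q) (hb : b ∈ P) :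
    ∃ r ∈ Q, ∃ i : ℕ, b = r * u ^ i := by
  have h := hgen hb
  rw [sup_comm, ← SetLike.mem_coe,
    coe_mul_of_right_le_normalizer_left Q (zpowers u) (zpowers_le.2 (hQn hu))] at h
  obtain ⟨r, hr, z, hz, rfl⟩ := h
  obtain ⟨i, rfl⟩ := mem_powers_iff_mem_zpowers.2 hz
  exact ⟨r, hr, i, rfl⟩

theorem comm_mem {P Q K : Subgroup G} {u : G} (hu : u ∈ P) (hQn : P ≤ normalizer (Q : Set G))
    (hgen : P ≤ zpowers u ⊔ Q) (hQK : Q ≤ normalizer (K : Set G))
    (huK : u ∈ normalizer (K : Set G)) (h1 : ∀ q ∈ Q, ⁅q, u⁆ ∈ K)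
    (h2 : ∀ q ∈ Q, ∀ r ∈ Q, ⁅q, r⁆ ∈ K) : ∀ q ∈ Q, ∀ b ∈ P, ⁅q, b⁆ ∈ K := by
  intro q hq b hb
  obtain ⟨r, hr, i, rfl⟩ := exists_mul_pow hu hQn hgen hb
  clear hb
  induction i with
  | zero => simpa using h2 q hq r hr
  | succ i ih =>
    have e : ⁅q, r * u ^ (i + 1)⁆ = ⁅q, r * u ^ i⁆ * ((r * u ^ i) * ⁅q, u⁆ * (r * u ^ i)⁻¹) := by
      rw [pow_succ]
      simp only [commutatorElement_def]
      group
    rw [e]
    exact mul_mem ih ((mem_normalizer_iff.1 (mul_mem (hQK hr) (pow_mem huK i)) _).1 (h1 q hq))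

/-- The criterion for a `p`-element to have centralizer with `p`-part `p²`. -/
theorem factorization_centralizer_eq_two (P : Sylow p G) {x : G}
    (hx : ∃ k : ℕ, orderOf x = p ^ k)
    (h : ∀ g : G, g⁻¹ * x * g ∈ (P : Subgroup G) →
      Nat.card ((P : Subgroup G) ⊓ centralizer ({g⁻¹ * x * g} : Set G) : Subgroup G) = p ^ 2) :
    (Nat.card (centralizer ({x} : Set G))).factorization p = 2 := by
  obtain ⟨k, hk⟩ := hx
  set C := centralizer ({x} : Set G) with hCdef
  have hxC : x ∈ C := mem_centralizer_singleton_iff.2 rfl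
  obtain ⟨S, hS⟩ := (IsPGroup.of_card (p := p) (G := zpowers (⟨x, hxC⟩ : C)) (n := k)
    (by rw [Nat.card_zpowers, Subgroup.orderOf_mk, hk])).exists_le_sylow
  obtain ⟨T, hT⟩ := (S.2.map C.subtype).exists_le_sylow
  obtain ⟨g, rfl⟩ := MulAction.exists_smul_eq G P T
  have hconj : ∀ s ∈ (S : Subgroup C).map C.subtype, g⁻¹ * s * g ∈ (P : Subgroup G) := by
    intro s hs
    have h1 := hT hs
    rw [Sylow.coe_subgroup_smul] at h1
    obtain ⟨y, hy, hye⟩ := mem_map.1 (show s ∈ (P : Subgroup G).map (MulAut.conj g).toMonoidHom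
      from h1)
    rw [← hye]
    simpa [mul_assoc] using hy
  have hxP : g⁻¹ * x * g ∈ (P : Subgroup G) :=
    hconj x (mem_map.2 ⟨⟨x, hxC⟩, hS (mem_zpowers _), rfl⟩)
  have hcard := h g hxP
  set x' := g⁻¹ * x * g with hx'
  have hmap : C.map (MulAut.conj g⁻¹).toMonoidHom = centralizer ({x'} : Set G) := by
    ext y
    rw [mem_map_conj, hCdef, mem_centralizer_singleton_iff, mem_centralizer_singleton_iff, hx']
    simp only [inv_inv]
    constructor <;> intro e
    · have := congrArg (fun z => g⁻¹ * z * g) e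
      simpa [mul_assoc] using this
    · have := congrArg (fun z => g * z * g⁻¹) e
      simpa [mul_assoc] using this
  have hle : ((S : Subgroup C).map C.subtype).map (MulAut.conj g⁻¹).toMonoidHom ≤
      (P : Subgroup G) ⊓ centralizer ({x'} : Set G) := by
    refine le_inf (fun y hy => ?_) (hmap ▸ map_mono (map_subtype_le _))
    rw [mem_map_conj, inv_inv] at hy
    simpa [mul_assoc] using hconj _ hy
  have hup : Nat.card (S : Subgroup C) ≤ p ^ 2 := by
    rw [← hcard]
    refine le_trans ?_ (Nat.le_of_dvd Nat.card_pos (card_dvd_of_le hle))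
    rw [card_map_of_injective (f := (MulAut.conj g⁻¹).toMonoidHom) (MulAut.conj g⁻¹).injective,
      card_map_of_injective C.subtype_injective]
  have hdvd : p ^ 2 ∣ Nat.card C := by
    rw [← hcard, ← card_map_of_injective (f := (MulAut.conj g⁻¹).toMonoidHom)
      (K := C) (MulAut.conj g⁻¹).injective, hmap]
    exact card_dvd_of_le inf_le_right
  refine le_antisymm ?_ ((hp.out.pow_dvd_iff_le_factorization Nat.card_pos.ne').1 hdvd)
  have := S.card_eq_multiplicity
  rw [this] at hup
  exact (Nat.pow_le_pow_iff_right hp.out.one_lt).1 hup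

/-- A conjugacy class of `P` lies in a coset of `P'`. -/
theorem relIndex_commutator_le {P : Subgroup G} {x : G} (hx : x ∈ P) :
    (⁅P, P⁆).relIndex P ≤ Nat.card (P ⊓ centralizer ({x} : Set G) : Subgroup G) := by
  set D := ⁅P, P⁆ with hD
  set C := P ⊓ centralizer ({x} : Set G) with hC
  have h1 : C.relIndex P ≤ Nat.card D := by
    rw [relIndex, index_eq_card]
    refine Nat.card_le_card_of_injective
      (fun a : ↥P ⧸ C.subgroupOf P => (⟨⁅((Quotient.out a : P) : G), x⁆,
        commutator_mem_commutator (Quotient.out a).2 hx⟩ : D)) ?_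
    intro a b hab
    have h := congrArg Subtype.val hab
    simp only [commutatorElement_def] at h
    rw [← QuotientGroup.out_eq' a, ← QuotientGroup.out_eq' b, QuotientGroup.eq, mem_subgroupOf]
    refine ⟨SetLike.coe_mem _, mem_centralizer_singleton_iff.2 ?_⟩
    simp only [coe_mul, InvMemClass.coe_inv, Subgroup.coe_subtype]
    generalize ((Quotient.out a : P) : G) = s at h ⊢
    generalize ((Quotient.out b : P) : G) = t at h ⊢
    have h' : s * x * s⁻¹ = t * x * t⁻¹ := mul_right_cancel h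
    calc s⁻¹ * t * x = s⁻¹ * (t * x * t⁻¹) * t := by group
      _ = x * (s⁻¹ * t) := by rw [← h']; group
  have h2 := relIndex_mul_card_eq C P inf_le_left
  have h3 := relIndex_mul_card_eq D P (commutator_le_self P)
  refine Nat.le_of_mul_le_mul_right ?_ (Nat.card_pos (α := D))
  rw [h3, ← h2]
  exact (Nat.mul_comm _ _).trans_le (Nat.mul_le_mul_left _ h1)
where
  relIndex_mul_card_eq (H K : Subgroup G) (h : H ≤ K) :
      H.relIndex K * Nat.card H = Nat.card K := by
    rw [← relIndex_bot_left, ← relIndex_bot_left, mul_comm]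
    exact relIndex_mul_relIndex ⊥ H K bot_le h

end CfsgLib.MaxClassCent
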