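import Cfsg.Agent.Lib.MaxClassCent.Basic

/-!
# Projection onto a factor of a minimal normal subgroup
-/

set_option autoImplicit false
set_option linter.style.haveILetI false
set_option linter.unusedSectionVars false

namespace CfsgLib.MaxClassCent

open Cfsg Subgroup
open scoped commutatorElement

variable {G : Type*} [Group G] [Finite G] {p : ℕ} [hp : Fact p.Prime]

open Classical in
/-- The component in `T` of an element of `T C(T)`. -/
noncomputable def proj (T : Subgroup G) (n : G) : G :=
  if h : ∃ t ∈ T, t⁻¹ * n ∈ centralizer (T : Set G) then h.choose else 1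

variable {N : Subgroup G} [hNn : N.Normal]
  (hmin : CfsgLib.Base.IsMinimalNormal N) (hC : centralizer (N : Set G) = ⊥)

/-- The component map on `N`. -/
structure ProjSpec (T : Subgroup G) where
  /-- the homomorphism -/
  hom : N →* G
  mem : ∀ n, hom n ∈ T
  eq_self : ∀ n : N, (n : G) ∈ T → hom n = n
  eq_one : ∀ n : N, (n : G) ∈ centralizer (T : Set G) → hom n = 1
  conj : ∀ g ∈ normalizer (T : Set G), ∀ n m : N, (m : G) = g * n * g⁻¹ → hom m = g * hom n * g⁻¹
  ker : ∀ n : N, hom n = 1 → (n : G) ∈ centralizer (T : Set G)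

include hmin hC in
theorem nonempty_projSpec {T : Subgroup G} (hT : IsFactor N T) :
    Nonempty (ProjSpec (N := N) T) := by
  have hex : ∀ n : N, ∃ t ∈ T, t⁻¹ * (n : G) ∈ centralizer (T : Set G) :=
    fun n => hT.exists_decomp hmin n.2
  have hpm : ∀ n : N, proj T (n : G) ∈ T := fun n => by
    rw [proj, dif_pos (hex n)]; exact (hex n).choose_spec.1
  have hps : ∀ n : N, (proj T (n : G))⁻¹ * n ∈ centralizer (T : Set G) := fun n => by
    rw [proj, dif_pos (hex n)]; exact (hex n).choose_spec.2
  have huniq : ∀ (n : N) (t : G), t ∈ T → t⁻¹ * (n : G) ∈ centralizer (T : Set G) →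
      proj T (n : G) = t := by
    intro n t ht htc
    have h1 : t⁻¹ * proj T (n : G) ∈ T ⊓ centralizer (T : Set G) := by
      refine mem_inf.2 ⟨T.mul_mem (T.inv_mem ht) (hpm n), ?_⟩
      have h := mul_mem htc (inv_mem (hps n))
      simpa [mul_assoc] using h
    rw [hT.inf_centralizer hmin hC, mem_bot, inv_mul_eq_one] at h1
    exact h1.symm
  refine ⟨⟨MonoidHom.mk' (fun n => proj T (n : G)) fun a b => ?_, hpm, fun n hn => ?_,
    fun n hn => ?_, fun g hg n m hm => ?_, fun n hn => ?_⟩⟩
  · refine huniq _ _ (mul_mem (hpm a) (hpm b)) ?_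
    have h := mem_centralizer_iff.1 (hps a) _ (inv_mem (hpm b))
    have e : (proj T (a : G) * proj T (b : G))⁻¹ * ((a * b : N) : G) =
        ((proj T (a : G))⁻¹ * a) * ((proj T (b : G))⁻¹ * b) := by
      rw [coe_mul]
      calc (proj T (a : G) * proj T (b : G))⁻¹ * ((a : G) * b)
          = (proj T (b : G))⁻¹ * ((proj T (a : G))⁻¹ * a) * b := by group
        _ = _ := by rw [h]; group
    rw [e]
    exact mul_mem (hps a) (hps b)
  · exact huniq n _ hn (by simp)
  · exact huniq n 1 T.one_mem (by simpa using hn)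
  · refine huniq m _ ((mem_normalizer_iff.1 hg _).1 (hpm n)) ?_
    have h := (mem_normalizer_iff.1 (normalizer_le_centralizer' hg) _).1 (hps n)
    rw [hm]
    simpa [mul_assoc] using h
  · have h := hps n
    rw [show proj T (n : G) = 1 from hn] at h
    simpa using h

/-- The centraliser of `N` is trivial, so elements are determined by their components. -/
theorem eq_one_of_forall {c : G} (hmin' : CfsgLib.Base.IsMinimalNormal N)
    (hC' : centralizer (N : Set G) = ⊥) (h : ∀ T, IsFactor N T → c ∈ centralizer (T : Set G)) :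
    c = 1 := by
  rw [← mem_bot, ← hC']
  refine mem_centralizer_iff.2 fun n hn => ?_
  have h1 : N ≤ centralizer ({c} : Set G) := le_of_factors hmin' fun T hT t ht =>
    mem_centralizer_singleton_iff.2 (mem_centralizer_iff.1 (h T hT) t ht)
  exact mem_centralizer_singleton_iff.1 (h1 hn)

theorem IsFactor.subgroupOf_normal {T : Subgroup G} (hT : IsFactor N T) :
    (T.subgroupOf N).Normal :=
  (normal_subgroupOf_iff_le_normalizer hT.2.1).2 hT.2.2.1

theorem IsFactor.not_dvd_relIndex (P : Sylow p G) {T : Subgroup G} (hT : IsFactor N T) :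
    ¬ p ∣ (P : Subgroup G).relIndex T := by
  haveI := hT.subgroupOf_normal
  let S : Sylow p N := IsPGroup.toSylow (P.2.comap_subtype (K := N))
    (CfsgLib.Transfer.not_dvd_index_subgroupOf_of_normal P N)
  have h := CfsgLib.Transfer.not_dvd_index_subgroupOf_of_normal S (T.subgroupOf N)
  have e : ((S : Subgroup N).subgroupOf (T.subgroupOf N)).index =
      (P : Subgroup G).relIndex T := by
    change ((P : Subgroup G).subgroupOf N).relIndex (T.subgroupOf N) = _
    exact relIndex_subgroupOf hT.2.1
  rwa [e] at h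

theorem IsFactor.inf_ne_bot (P : Sylow p G) (hcore : pPrimeCore p G = ⊥) {T : Subgroup G}
    (hT : IsFactor N T) : (P : Subgroup G) ⊓ T ≠ ⊥ := by
  intro hb
  have h := hT.not_dvd_relIndex P
  rw [← inf_relIndex_right, hb, relIndex_bot_left] at h
  refine hT.1 (le_bot_iff.1 (hcore ▸ CfsgLib.Base.le_pPrimeCore_of_isSubnormal
    (IsSubnormal.step T N hT.2.1 hNn.isSubnormal hT.subgroupOf_normal) ?_))
  exact (hp.out.coprime_iff_not_dvd.2 h).symm

theorem ProjSpec.mem_inf (P : Sylow p G) {T : Subgroup G} (hT : IsFactor N T)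
    (π : ProjSpec (N := N) T) {n : N} (hn : (n : G) ∈ (P : Subgroup G)) :
    π.hom n ∈ (P : Subgroup G) ⊓ T := by
  set R := (P : Subgroup G) ⊓ T with hR
  set X := ((P : Subgroup G).subgroupOf N).map π.hom with hX
  have hRX : R ≤ X := fun r hr =>
    ⟨⟨r, hT.2.1 hr.2⟩, hr.1, π.eq_self _ hr.2⟩
  have hXT : X ≤ T := by rintro _ ⟨m, -, rfl⟩; exact π.mem m
  have hXp : IsPGroup p X := (P.2.comap_subtype).map π.hom
  obtain ⟨k, hk⟩ := hXp.index (R.subgroupOf X)
  have h := hT.not_dvd_relIndex P
  rw [← inf_relIndex_right, ← hR, ← relIndex_mul_relIndex R X T hRX hXT] at h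
  have hk0 : k = 0 := by
    by_contra hk0
    exact h (dvd_mul_of_dvd_left (show p ∣ (R.subgroupOf X).index from hk ▸ dvd_pow_self p hk0) _)
  rw [hk0, pow_zero] at hk
  exact relIndex_eq_one.1 hk ⟨n, hn, rfl⟩

end CfsgLib.MaxClassCent
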