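import Cfsg.Agent.Lib.MaxClassCent.Count
import Cfsg.Agent.Lib.MaxClassCent.Proj

/-!
# For each factor a subgroup between `P'` and `P ∩ N` missing that factor
-/

set_option autoImplicit false
set_option linter.style.haveILetI false
set_option linter.unusedSectionVars false

namespace CfsgLib.MaxClassCent

open Cfsg Subgroup
open scoped commutatorElement

variable {G : Type*} [Group G] [Finite G] {p : ℕ} [hp : Fact p.Prime]
variable {N : Subgroup G} [hNn : N.Normal]

theorem isPGroup_commutator_lt {R : Subgroup G} (hR : IsPGroup p R) (hne : R ≠ ⊥) :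
    ⁅R, R⁆ < R := by
  haveI := hR.isNilpotent
  exact CfsgLib.Base.commutator_self_lt_of_isSolvable hne inferInstance

theorem bracket_lt {P : Subgroup G} (hP : IsPGroup p P) {R : Subgroup G} (hRP : R ≤ P)
    (hRn : P ≤ normalizer (R : Set G)) (hne : R ≠ ⊥) : ⁅R, P⁆ < R := by
  haveI : (R.subgroupOf P).Normal := (normal_subgroupOf_iff_le_normalizer hRP).2 hRn
  have h := CfsgLib.PGroups.commutator_top_lt hP (N := R.subgroupOf P) fun hb => hne
    (by rw [← map_subgroupOf_eq_of_le hRP, hb, Subgroup.map_bot])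
  have h' := map_strictMono_of_injective P.subtype_injective h
  rwa [map_commutator, map_subgroupOf_eq_of_le hRP, ← MonoidHom.range_eq_map, range_subtype] at h'
where
  map_strictMono_of_injective {A B : Type _} [Group A] [Group B] {f : A →* B}
      (hf : Function.Injective f) {H K : Subgroup A} (h : H < K) : H.map f < K.map f :=
    lt_of_le_of_ne (map_mono h.le) fun e => h.ne (map_injective hf e)

theorem conj_inf_mem (P : Subgroup G) (T : Subgroup G) {b r : G} (hb : b ∈ P)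
    (hbT : b ∈ normalizer (T : Set G)) (hr : r ∈ P ⊓ T) : b * r * b⁻¹ ∈ P ⊓ T :=
  mem_inf.2 ⟨P.mul_mem (P.mul_mem hb hr.1) (P.inv_mem hb), (mem_normalizer_iff.1 hbT r).1 hr.2⟩

theorem exists_kernel (P : Sylow p G) (hmin : CfsgLib.Base.IsMinimalNormal N)
    (hC : centralizer (N : Set G) = ⊥) (hcore : pPrimeCore p G = ⊥)
    {u : G} (hu : u ∈ (P : Subgroup G))
    (hgen : (P : Subgroup G) ≤ zpowers u ⊔ ((P : Subgroup G) ⊓ N)) (hup : u ^ p ∈ N)
    {T : Subgroup G} (hT : IsFactor N T) :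
    ∃ K ≤ (P : Subgroup G) ⊓ N, ⁅(P : Subgroup G), (P : Subgroup G)⁆ ≤ K ∧
      ¬ (P : Subgroup G) ⊓ T ≤ K ∧
      ((P : Subgroup G) ≤ normalizer (T : Set G) → ∀ T', IsFactor N T' → T' ≠ T →
        (P : Subgroup G) ⊓ T' ≤ K) ∧
      (((P : Subgroup G) ≤ normalizer (T : Set G) → (P : Subgroup G) ≤ N) →
        K ⊓ ((P : Subgroup G) ⊓ T) ≤ ⁅(P : Subgroup G) ⊓ T, (P : Subgroup G) ⊓ T⁆) := by
  obtain ⟨π⟩ := nonempty_projSpec hmin hC hT
  set Q := (P : Subgroup G) ⊓ N with hQdef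
  set R := (P : Subgroup G) ⊓ T with hRdef
  have hRQ : R ≤ Q := fun r hr => ⟨hr.1, hT.2.1 hr.2⟩
  have hQn : (P : Subgroup G) ≤ normalizer (Q : Set G) := fun b hb => mem_normalizer_fintype
    fun q hq => mem_inf.2 ⟨mul_mem (mul_mem hb hq.1) (inv_mem hb), hNn.conj_mem q hq.2 b⟩
  have hQconj : ∀ b ∈ (P : Subgroup G), ∀ q ∈ Q, b * q * b⁻¹ ∈ Q := fun b hb q hq =>
    (mem_normalizer_iff.1 (hQn hb) q).1 hq
  let ι : Q →* N := Subgroup.inclusion inf_le_right
  have hπR : ∀ q : Q, π.hom (ι q) ∈ R := fun q => π.mem_inf P hT q.2.1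
  have hRne : R ≠ ⊥ := hT.inf_ne_bot P hcore
  have hRp : IsPGroup p R := P.2.to_le inf_le_left
  by_cases hfix : (P : Subgroup G) ≤ normalizer (T : Set G)
  · set D := ⁅R, (P : Subgroup G)⁆ with hDdef
    have hRn : (P : Subgroup G) ≤ normalizer (R : Set G) := fun b hb =>
      mem_normalizer_fintype fun r hr => conj_inf_mem _ T hb (hfix hb) hr
    have hDlt : D < R := bracket_lt P.2 inf_le_left hRn hRne
    let K : Subgroup G := (D.comap (π.hom.comp ι)).map Q.subtype
    have hKQ : K ≤ Q := map_subtype_le _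
    have hmemK : ∀ (q : G) (hq : q ∈ Q), π.hom (ι ⟨q, hq⟩) ∈ D → q ∈ K :=
      fun q hq h => mem_map.2 ⟨⟨q, hq⟩, h, rfl⟩
    refine ⟨K, hKQ, ?_, ?_, fun _ T' hT' hne r hr => ?_, fun hPN => ?_⟩
    · refine commutator_le_of hu hgen inf_le_left hKQ hQconj fun q hq b hb => ?_
      have hq' : b * q⁻¹ * b⁻¹ ∈ Q := hQconj b hb _ (inv_mem hq)
      have e : ⁅q, b⁆ = q * (b * q⁻¹ * b⁻¹) := by rw [commutatorElement_def]; group
      rw [e]
      refine hmemK _ (Q.mul_mem hq hq') ?_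
      have e2 : ι ⟨q * (b * q⁻¹ * b⁻¹), Q.mul_mem hq hq'⟩ = ι ⟨q, hq⟩ * ι ⟨_, hq'⟩ := rfl
      rw [e2, map_mul, π.conj b (hfix hb) (ι ⟨q, hq⟩)⁻¹ (ι ⟨_, hq'⟩) rfl, map_inv]
      have := commutator_mem_commutator (hπR ⟨q, hq⟩) hb
      rwa [commutatorElement_def, mul_assoc, mul_assoc, ← mul_assoc b] at this
    · intro hle
      refine hDlt.not_ge fun r hr => ?_
      obtain ⟨q, hq, hqr⟩ := mem_map.1 (hle hr)
      have h := mem_comap.1 hq
      have hqT : ((ι q : N) : G) ∈ T := (show ((q : Q) : G) = r from hqr) ▸ hr.2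
      rw [MonoidHom.comp_apply, π.eq_self (ι q) hqT] at h
      exact hqr ▸ h
    · refine hmemK r ⟨hr.1, hT'.2.1 hr.2⟩ ?_
      rw [π.eq_one (ι ⟨r, ⟨hr.1, hT'.2.1 hr.2⟩⟩)
        (mem_centralizer_iff.2 fun a ha => (hT'.commute hT hne hr.2 ha).symm)]
      exact one_mem _
    · have hD : D ≤ ⁅R, R⁆ := by
        rw [hDdef, commutator_le]
        intro r hr b hb
        have hbQ : b ∈ Q := ⟨hb, hPN hfix hb⟩
        obtain ⟨t, ht⟩ : ∃ t, π.hom (ι ⟨b, hbQ⟩) = t := ⟨_, rfl⟩
        have htR : t ∈ R := ht ▸ hπR _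
        have hc : t⁻¹ * b ∈ centralizer (T : Set G) := by
          have htN : t ∈ N := hT.2.1 htR.2
          refine π.ker (⟨t, htN⟩⁻¹ * ι ⟨b, hbQ⟩) ?_
          rw [map_mul, map_inv, ht, π.eq_self ⟨t, htN⟩ htR.2]
          simp
        have hc' := mem_centralizer_iff.1 hc r⁻¹ (inv_mem hr.2)
        have e : ⁅r, b⁆ = ⁅r, t⁆ := by
          rw [commutatorElement_def, commutatorElement_def]
          calc r * b * r⁻¹ * b⁻¹ = r * t * ((t⁻¹ * b) * r⁻¹) * b⁻¹ := by group
            _ = r * t * r⁻¹ * t⁻¹ := by rw [← hc']; group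
        rw [e]
        exact commutator_mem_commutator hr htR
      intro r hr
      obtain ⟨q, hq, hqr⟩ := mem_map.1 hr.1
      have h := mem_comap.1 hq
      have hqT : ((ι q : N) : G) ∈ T := (show ((q : Q) : G) = r from hqr) ▸ hr.2.2
      rw [MonoidHom.comp_apply, π.eq_self (ι q) hqT] at h
      exact hD (hqr ▸ h)
  · have hQT : Q ≤ normalizer (T : Set G) := inf_le_right.trans hT.2.2.1
    have huT : u ∉ normalizer (T : Set G) := fun h =>
      hfix (hgen.trans (sup_le (zpowers_le.2 h) hQT))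
    have hpowT : ∀ i : ℕ, 0 < i → i < p → u ^ i ∉ normalizer (T : Set G) := by
      intro i hi hip h
      apply huT
      have hco : i.gcd p = 1 :=
        ((hp.out.coprime_iff_not_dvd).2 fun hd => (Nat.le_of_dvd hi hd).not_gt hip).symm
      have hg := Nat.gcd_eq_gcd_ab i p
      rw [hco] at hg
      have e : u = (u ^ i) ^ (i.gcdA p) * (u ^ p) ^ (i.gcdB p) := by
        rw [← zpow_natCast u i, ← zpow_natCast u p, ← zpow_mul, ← zpow_mul, ← zpow_add, ← hg]
        simp
      rw [e]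
      exact mul_mem (zpow_mem h _) (zpow_mem (hT.2.2.1 hup) _)
    let φ : Q →* Abelianization R :=
      Abelianization.of.comp ((π.hom.comp ι).codRestrict R hπR)
    let c : ℕ → (Q →* Q) := fun i => MonoidHom.mk'
      (fun q => ⟨u ^ i * q * (u ^ i)⁻¹, hQconj _ (pow_mem hu i) _ q.2⟩)
      fun a b => Subtype.ext (by simp [mul_assoc])
    let f : Q →* Abelianization R := ∏ i ∈ Finset.range p, φ.comp (c i)
    have hf : ∀ q, f q = ∏ i ∈ Finset.range p, φ (c i q) := fun q => by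
      simp [f, MonoidHom.finsetProd_apply]
    have hfu : ∀ q, f (c 1 q) = f q := by
      intro q
      rw [hf, hf]
      have h1 : ∀ i, c i (c 1 q) = c (i + 1) q := fun i => Subtype.ext (by
        simp [c, pow_succ, mul_assoc])
      simp only [h1]
      have h2 := Finset.prod_range_succ' (fun i => φ (c i q)) p
      rw [Finset.prod_range_succ] at h2
      have hupQ : u ^ p ∈ Q := ⟨pow_mem hu p, hup⟩
      have h3 : φ (c p q) = φ (c 0 q) := by
        have e1 : c p q = ⟨u ^ p, hupQ⟩ * q * ⟨u ^ p, hupQ⟩⁻¹ := rfl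
        have e0 : c 0 q = q := Subtype.ext (by simp [c])
        rw [e1, e0, map_mul, map_mul, map_inv, mul_comm, inv_mul_cancel_left]
      rw [h3] at h2
      exact (mul_right_cancel h2).symm
    let K : Subgroup G := f.ker.map Q.subtype
    have hKQ : K ≤ Q := map_subtype_le _
    have hmemK : ∀ (q : G) (hq : q ∈ Q), q ∈ K ↔ f ⟨q, hq⟩ = 1 := by
      intro q hq
      refine ⟨fun h => ?_, fun h => mem_map.2 ⟨⟨q, hq⟩, h, rfl⟩⟩
      obtain ⟨a, ha, rfl⟩ := mem_map.1 h
      exact ha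
    have hKr : K ⊓ R ≤ ⁅R, R⁆ := by
      intro r hr
      have hrQ : r ∈ Q := hRQ hr.2
      have h := (hmemK r hrQ).1 hr.1
      rw [hf, Finset.prod_eq_single 0 ?_ (fun h0 => absurd (Finset.mem_range.2 hp.out.pos) h0)] at h
      · have h0 : φ (c 0 ⟨r, hrQ⟩) = Abelianization.of (⟨r, hr.2⟩ : R) := by
          refine congrArg Abelianization.of (Subtype.ext ?_)
          have e0 : c 0 ⟨r, hrQ⟩ = ⟨r, hrQ⟩ := Subtype.ext (by simp [c])
          change π.hom (ι (c 0 ⟨r, hrQ⟩)) = r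
          rw [e0]
          exact π.eq_self (ι ⟨r, hrQ⟩) hr.2.2
        rw [h0, ← MonoidHom.mem_ker, Abelianization.ker_of] at h
        rw [← map_subtype_commutator]
        exact mem_map.2 ⟨_, h, rfl⟩
      · intro i hi hi0
        have hmem : ((ι (c i ⟨r, hrQ⟩) : N) : G) ∈ centralizer (T : Set G) := by
          have hT' := hT.conj (u ^ i)
          have hne : T.map (MulAut.conj (u ^ i)).toMonoidHom ≠ T := by
            intro he
            refine hpowT i (Nat.pos_of_ne_zero hi0) (Finset.mem_range.1 hi)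
              (mem_normalizer_fintype fun t ht => ?_)
            rw [SetLike.mem_coe] at ht ⊢
            have h4 : u ^ i * t * (u ^ i)⁻¹ ∈ T.map (MulAut.conj (u ^ i)).toMonoidHom :=
              mem_map.2 ⟨t, ht, rfl⟩
            rwa [he] at h4
          refine mem_centralizer_iff.2 fun a ha => ?_
          exact (hT'.commute hT hne (mem_map.2 ⟨r, hr.2.2, rfl⟩) ha).symm
        have h1 : (π.hom.comp ι).codRestrict R hπR (c i ⟨r, hrQ⟩) = 1 :=
          Subtype.ext (π.eq_one _ hmem)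
        change Abelianization.of _ = 1
        rw [h1, map_one]
    refine ⟨K, hKQ, ?_, fun hle => ?_, fun h => absurd h hfix, fun _ => hKr⟩
    · refine commutator_le_of hu hgen inf_le_left hKQ hQconj
        (comm_mem hu hQn hgen (fun b hb => mem_normalizer_fintype fun k hk => ?_)
          (mem_normalizer_fintype fun k hk => ?_) (fun q hq => ?_) fun q hq r hr => ?_)
      · rw [SetLike.mem_coe] at hk ⊢
        rw [hmemK _ (Q.mul_mem (Q.mul_mem hb (hKQ hk)) (Q.inv_mem hb))]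
        have := (hmemK k (hKQ hk)).1 hk
        rw [show (⟨b * k * b⁻¹, _⟩ : Q) = ⟨b, hb⟩ * ⟨k, hKQ hk⟩ * ⟨b, hb⟩⁻¹ from rfl,
          map_mul, map_mul, this, map_inv, mul_one, mul_inv_cancel]
      · rw [SetLike.mem_coe] at hk ⊢
        rw [hmemK _ (hQconj u hu k (hKQ hk))]
        have e : (⟨u * k * u⁻¹, hQconj u hu k (hKQ hk)⟩ : Q) = c 1 ⟨k, hKQ hk⟩ :=
          Subtype.ext (by simp [c])
        rw [e, hfu, (hmemK k (hKQ hk)).1 hk]
      · have e : ⁅q, u⁆ = q * (u * q⁻¹ * u⁻¹) := by rw [commutatorElement_def]; group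
        rw [e, hmemK _ (Q.mul_mem hq (hQconj u hu _ (inv_mem hq)))]
        rw [show (⟨q * (u * q⁻¹ * u⁻¹), _⟩ : Q) = ⟨q, hq⟩ * c 1 ⟨q, hq⟩⁻¹ from
          Subtype.ext (by simp [c]), map_mul, hfu, map_inv, mul_inv_cancel]
      · rw [hmemK _ (by rw [commutatorElement_def]
                        exact Q.mul_mem (Q.mul_mem (Q.mul_mem hq hr) (Q.inv_mem hq)) (Q.inv_mem hr))]
        rw [show (⟨⁅q, r⁆, _⟩ : Q) = ⁅(⟨q, hq⟩ : Q), ⟨r, hr⟩⁆ from rfl, map_commutatorElement,
          commutatorElement_eq_one_iff_mul_comm, mul_comm]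
    · exact (isPGroup_commutator_lt hRp hRne).not_ge ((le_inf hle le_rfl).trans hKr)

end CfsgLib.MaxClassCent
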