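import Cfsg.Agent.Lib.MaxClassCent.Kernel

/-!
# `[P : P'] = p²` gives a `p`-element with small centraliser
-/

set_option autoImplicit false
set_option linter.style.haveILetI false
set_option linter.unusedSectionVars false

namespace CfsgLib.MaxClassCent

open Cfsg Subgroup
open scoped commutatorElement

variable {G : Type*} [Group G] [Finite G] {p : ℕ} [hp : Fact p.Prime]

theorem relIndex_ne_zero' (H K : Subgroup G) : H.relIndex K ≠ 0 := index_ne_zero_of_finite

theorem eq_bot_of_inf_le (P : Sylow p G) (hcore : pPrimeCore p G = ⊥)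
    (hcore' : (⁅(P : Subgroup G), (P : Subgroup G)⁆).normalCore = ⊥) {N : Subgroup G}
    [hN : N.Normal] (h : (P : Subgroup G) ⊓ N ≤ ⁅(P : Subgroup G), (P : Subgroup G)⁆) :
    N = ⊥ := by
  obtain ⟨S, K, hK, hc⟩ := CfsgLib.Transfer.hasNormalPComplement_of_inf_le_frattini P N (by
    rw [inf_comm]
    refine h.trans ?_
    rw [← map_subtype_commutator]
    exact map_mono (CfsgLib.PGroups.commutator_le_frattini P.2))
  have hKb : K = ⊥ := by
    haveI := hK
    have hcop : (Nat.card K).Coprime p := by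
      rw [← hc.index_eq_card]
      exact (hp.out.coprime_iff_not_dvd.2 S.not_dvd_index).symm
    have h2 := map_mono (f := N.subtype) (CfsgLib.Base.le_pPrimeCore hcop)
    have h1 : K.map N.subtype ≤ ⊥ :=
      h2.trans ((CfsgLib.Base.map_pPrimeCore_eq_inf N).le.trans (inf_le_left.trans hcore.le))
    exact (map_eq_bot_iff_of_injective _ N.subtype_injective).1 (le_bot_iff.1 h1)
  have hS : (S : Subgroup N) = ⊤ := isComplement'_bot_left.1 (hKb ▸ hc)
  have hNp : IsPGroup p N :=
    (hS ▸ S.2 : IsPGroup p (⊤ : Subgroup N)).of_equiv Subgroup.topEquiv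
  have hNP : N ≤ (P : Subgroup G) :=
    (CfsgLib.Base.le_pCore hNp).trans (CfsgLib.Base.pCore_le_sylow P)
  have := normal_le_normalCore.2 (show N ≤ _ from (le_inf hNP le_rfl).trans h)
  exact le_bot_iff.1 (hcore' ▸ this)

theorem exists_gen (P : Sylow p G) (hcore : pPrimeCore p G = ⊥)
    (hcore' : (⁅(P : Subgroup G), (P : Subgroup G)⁆).normalCore = ⊥)
    (hidx : (⁅(P : Subgroup G), (P : Subgroup G)⁆).relIndex (P : Subgroup G) = p ^ 2)
    {N : Subgroup G} [hN : N.Normal] (hne : N ≠ ⊥) :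
    ⁅(P : Subgroup G), (P : Subgroup G)⁆ ≤ (P : Subgroup G) ⊓ N ∧
      (((P : Subgroup G) ⊓ N).relIndex (P : Subgroup G) = 1 ∨
        ((P : Subgroup G) ⊓ N).relIndex (P : Subgroup G) = p) ∧
      ∃ u ∈ (P : Subgroup G), (P : Subgroup G) ≤ zpowers u ⊔ ((P : Subgroup G) ⊓ N) ∧
        u ^ p ∈ N := by
  set A : Subgroup ↥(P : Subgroup G) := N.subgroupOf (P : Subgroup G) with hA
  have hAmap : A.map (P : Subgroup G).subtype = (P : Subgroup G) ⊓ N := by
    rw [hA, subgroupOf_map_subtype, inf_comm]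
  have hAidx : A.index = ((P : Subgroup G) ⊓ N).relIndex (P : Subgroup G) := by
    rw [inf_relIndex_left]; rfl
  have hDidx : (commutator ↥(P : Subgroup G)).index = p ^ 2 := by
    rw [← hidx, relIndex, ← map_subtype_commutator, subgroupOf,
      comap_map_eq_self_of_injective (P : Subgroup G).subtype_injective]
  haveI : A.Normal := hN.subgroupOf _
  have hAD : ¬ A ≤ commutator ↥(P : Subgroup G) := fun h => hne
    (eq_bot_of_inf_le P hcore hcore' (by rw [← hAmap, ← map_subtype_commutator]; exact map_mono h))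
  set B := A ⊔ commutator ↥(P : Subgroup G) with hB
  have hmul := relIndex_mul_index (show commutator ↥(P : Subgroup G) ≤ B from le_sup_right)
  rw [hDidx] at hmul
  obtain ⟨k, hk, hBk⟩ := (Nat.dvd_prime_pow hp.out).1 (Dvd.intro_left _ hmul)
  have hk1 : k ≤ 1 := by
    by_contra hcon
    obtain rfl : k = 2 := by omega
    rw [hBk] at hmul
    have h1 : (commutator ↥(P : Subgroup G)).relIndex B = 1 :=
      Nat.eq_of_mul_eq_mul_right (pow_pos hp.out.pos 2) (by rw [hmul, one_mul])
    exact hAD (le_sup_left.trans (relIndex_eq_one.1 h1))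
  obtain ⟨v, hv⟩ : ∃ v, zpowers v ⊔ B = ⊤ := by
    by_cases htop : B = ⊤
    · exact ⟨1, by simp [htop]⟩
    obtain ⟨v, -, hv⟩ := SetLike.exists_of_lt (lt_top_iff_ne_top.2 htop)
    refine ⟨v, ?_⟩
    have hkp : B.index = p := by
      obtain rfl | rfl : k = 0 ∨ k = 1 := by omega
      · exact absurd (index_eq_one.1 (by simpa using hBk)) htop
      · simpa using hBk
    have h1 := relIndex_mul_index (show B ≤ zpowers v ⊔ B from le_sup_right)
    rw [hkp] at h1
    rcases hp.out.eq_one_or_self_of_dvd _ (Dvd.intro _ h1) with h3 | h3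
    · exact absurd (relIndex_eq_one.1 h3 (mem_sup_left (mem_zpowers v))) hv
    · rw [h3] at h1
      exact index_eq_one.1 (Nat.eq_of_mul_eq_mul_left hp.out.pos (by rw [h1, mul_one]))
  have hvA : A ⊔ zpowers v = ⊤ := by
    refine frattini_nongenerating (top_le_iff.1 ?_)
    rw [← hv, hB]
    exact sup_le (le_sup_of_le_left le_sup_right) (sup_le (le_sup_of_le_left le_sup_left)
      (le_sup_of_le_right (CfsgLib.PGroups.commutator_le_frattini P.2)))
  have hDA : commutator ↥(P : Subgroup G) ≤ A :=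
    Subgroup.Normal.commutator_le_of_self_sup_commutative_eq_top hvA inferInstance
  have hBA : B = A := by rw [hB, sup_eq_left.2 hDA]
  rw [hBA] at hBk
  refine ⟨?_, ?_, v, v.2, ?_, ?_⟩
  · rw [← hAmap, ← map_subtype_commutator]; exact map_mono hDA
  · rw [← hAidx, hBk]
    obtain rfl | rfl : k = 0 ∨ k = 1 := by omega
    · simp
    · simp
  · intro b hb
    have h := mem_map_of_mem (P : Subgroup G).subtype (hvA ▸ mem_top (⟨b, hb⟩ : (P : Subgroup G)))
    rw [Subgroup.map_sup, hAmap, MonoidHom.map_zpowers, sup_comm] at h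
    exact h
  · have h := A.pow_index_mem v
    rw [hBk] at h
    obtain rfl | rfl : k = 0 ∨ k = 1 := by omega
    · rw [pow_zero, pow_one] at h
      exact pow_mem (mem_subgroupOf.1 h) p
    · rw [pow_one] at h
      simpa using mem_subgroupOf.1 h

theorem abelian_inf_of_minimal (P : Sylow p G) (hcore : pPrimeCore p G = ⊥)
    (hcore' : (⁅(P : Subgroup G), (P : Subgroup G)⁆).normalCore = ⊥)
    (hnas : ¬ ∃ S : Subgroup G, S.Normal ∧ IsSimpleGroup S ∧ ¬ IsMulCommutative S ∧
      Subgroup.centralizer (S : Set G) = ⊥)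
    (hidx : (⁅(P : Subgroup G), (P : Subgroup G)⁆).relIndex (P : Subgroup G) = p ^ 2)
    (hne' : ⁅(P : Subgroup G), (P : Subgroup G)⁆ ≠ ⊥)
    {N : Subgroup G} (hmin : CfsgLib.Base.IsMinimalNormal N) :
    (∀ a ∈ (P : Subgroup G) ⊓ N, ∀ b ∈ (P : Subgroup G) ⊓ N, a * b = b * a) := by
  haveI := hmin.normal
  obtain ⟨hP'Q, hcases, u, hu, hgen, hup⟩ := exists_gen P hcore hcore' hidx hmin.ne_bot
  by_cases hcomm : IsMulCommutative N
  · exact fun a ha b hb => congrArg Subtype.val (hcomm.is_comm.comm (⟨a, ha.2⟩ : N) ⟨b, hb.2⟩)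
  have hC : centralizer (N : Set G) = ⊥ := by
    by_contra hne
    rcases hmin.eq_bot_or_eq (K := N ⊓ centralizer (N : Set G)) inferInstance inf_le_left with h | h
    · exact hne' (le_bot_iff.1 (h ▸ le_inf (hP'Q.trans inf_le_right)
        ((exists_gen P hcore hcore' hidx hne).1.trans inf_le_right)))
    · exact hcomm ⟨⟨fun a b => Subtype.ext
        (mem_centralizer_iff.1 (inf_eq_left.1 h b.2) a a.2)⟩⟩
  have hdist : ∀ T, IsFactor N T → ∃ T', IsFactor N T' ∧ T' ≠ T := by
    intro T hT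
    by_contra hall
    push Not at hall
    have hTN : T = N := le_antisymm hT.2.1 (le_of_factors hmin fun T' hT' => (hall T' hT').le)
    subst hTN
    haveI : Nontrivial T := (nontrivial_iff_ne_bot T).2 hmin.ne_bot
    refine hnas ⟨T, hmin.normal, ⟨fun H hH => ?_⟩, hcomm, hC⟩
    by_contra hcon
    push Not at hcon
    have hsub : (H.map T.subtype).subgroupOf T = H :=
      comap_map_eq_self_of_injective T.subtype_injective H
    have hn : T ≤ normalizer ((H.map T.subtype : Subgroup G) : Set G) :=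
      (normal_subgroupOf_iff_le_normalizer (map_subtype_le H)).1 (hsub.symm ▸ hH)
    have h := hT.2.2.2 (H.map T.subtype)
      (fun hb => hcon.1 ((map_eq_bot_iff_of_injective _ T.subtype_injective).1 hb))
      (map_subtype_le H) hn
    refine hcon.2 ?_
    rw [← hsub, h, subgroupOf_self]
  set Q := (P : Subgroup G) ⊓ N with hQ
  set D := ⁅(P : Subgroup G), (P : Subgroup G)⁆ with hD
  have hker := fun T (hT : IsFactor N T) => exists_kernel P hmin hC hcore hu hgen hup hT
  choose K hKQ hDK hRK hother hKr using hker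
  have hDidx : D.relIndex Q * Q.relIndex (P : Subgroup G) = p ^ 2 := by
    rw [relIndex_mul_relIndex _ _ _ hP'Q inf_le_left, hidx]
  have hmulK : ∀ T (hT : IsFactor N T), D.relIndex (K T hT) * (K T hT).relIndex Q = D.relIndex Q :=
    fun T hT => relIndex_mul_relIndex _ _ _ (hDK T hT) (hKQ T hT)
  have hKlt : ∀ T (hT : IsFactor N T), (K T hT).relIndex Q ≠ 1 := fun T hT h1 =>
    hRK T hT ((le_inf inf_le_left (inf_le_right.trans hT.2.1)).trans (relIndex_eq_one.1 h1))
  have key : ∀ T (hT : IsFactor N T), (K T hT).relIndex Q = p ∧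
      K T hT ⊓ ((P : Subgroup G) ⊓ T) ≤ ⁅(P : Subgroup G) ⊓ T, (P : Subgroup G) ⊓ T⁆ := by
    intro T hT
    rcases hcases with h1 | h1
    · rw [h1, mul_one] at hDidx
      have hPN : (P : Subgroup G) ≤ N := (relIndex_eq_one.1 h1).trans inf_le_right
      refine ⟨?_, hKr T hT fun _ => hPN⟩
      have hfix : ∀ S, IsFactor N S → (P : Subgroup G) ≤ normalizer (S : Set G) :=
        fun S hS => hPN.trans hS.2.2.1
      obtain ⟨T', hT', hne⟩ := hdist T hT
      have hnD : D.relIndex (K T hT) ≠ 1 := fun h =>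
        hRK T' hT' ((hother T hT (hfix T hT) T' hT' hne).trans
          ((relIndex_eq_one.1 h).trans (hDK T' hT')))
      have hm := hmulK T hT
      rw [hDidx] at hm
      obtain ⟨i, hi, hie⟩ := (Nat.dvd_prime_pow hp.out).1 (Dvd.intro_left _ hm)
      obtain ⟨j, hj, hje⟩ := (Nat.dvd_prime_pow hp.out).1 (Dvd.intro _ hm)
      rw [hie, hje, ← pow_add] at hm
      have hij := Nat.pow_right_injective hp.out.two_le hm
      have hi0 : i ≠ 0 := fun h => hKlt T hT (by simpa [h] using hie)
      have hj0 : j ≠ 0 := fun h => hnD (by simpa [h] using hje)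
      obtain rfl : i = 1 := by omega
      simpa using hie
    · rw [h1] at hDidx
      have hDQ : D.relIndex Q = p := Nat.eq_of_mul_eq_mul_right hp.out.pos (by rw [hDidx, sq])
      have hKD : ∀ S (hS : IsFactor N S), K S hS = D := by
        intro S hS
        refine le_antisymm (relIndex_eq_one.1 ?_) (hDK S hS)
        have hm := hmulK S hS
        rw [hDQ] at hm
        rcases hp.out.eq_one_or_self_of_dvd _ (Dvd.intro _ hm) with h | h
        · exact h
        · rw [h] at hm
          exact absurd (Nat.eq_of_mul_eq_mul_left hp.out.pos (by rw [hm, mul_one])) (hKlt S hS)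
      refine ⟨by rw [hKD T hT, hDQ], hKr T hT fun hfix => ?_⟩
      obtain ⟨T', hT', hne⟩ := hdist T hT
      exact absurd ((hother T hT hfix T' hT' hne).trans
        (le_of_eq ((hKD T hT).trans (hKD T' hT').symm))) (hRK T' hT')
  have hRab : ∀ T, IsFactor N T → ∀ a ∈ (P : Subgroup G) ⊓ T, ∀ b ∈ (P : Subgroup G) ⊓ T,
      a * b = b * a := by
    intro T hT
    refine comm_of_relIndex_le (P.2.to_le inf_le_left) ?_
    obtain ⟨hp', hle⟩ := key T hT
    have h1 : (⁅(P : Subgroup G) ⊓ T, (P : Subgroup G) ⊓ T⁆).relIndex ((P : Subgroup G) ⊓ T) ∣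
        (K T hT ⊓ ((P : Subgroup G) ⊓ T)).relIndex ((P : Subgroup G) ⊓ T) :=
      relIndex_dvd_of_le_left _ hle
    rw [inf_relIndex_right] at h1
    refine (Nat.le_of_dvd (Nat.pos_of_ne_zero (relIndex_ne_zero' _ _)) h1).trans ?_
    exact (relIndex_le_of_le_right (le_inf inf_le_left (inf_le_right.trans hT.2.1))
      (relIndex_ne_zero' (K T hT) Q)).trans hp'.le
  intro a ha b hb
  rw [← commutatorElement_eq_one_iff_mul_comm]
  refine eq_one_of_forall hmin hC fun T hT => ?_
  obtain ⟨π⟩ := nonempty_projSpec hmin hC hT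
  have h : π.hom ⁅(⟨a, ha.2⟩ : N), ⟨b, hb.2⟩⁆ = 1 := by
    rw [map_commutatorElement, commutatorElement_eq_one_iff_mul_comm]
    exact hRab T hT _ (π.mem_inf P hT ha.1) _ (π.mem_inf P hT hb.1)
  exact π.ker _ h

theorem exists_element (P : Sylow p G) (hbig : p ^ 2 ∣ Nat.card G) (hcore : pPrimeCore p G = ⊥)
    (hcore' : (⁅(P : Subgroup G), (P : Subgroup G)⁆).normalCore = ⊥)
    (hnas : ¬ ∃ S : Subgroup G, S.Normal ∧ IsSimpleGroup S ∧ ¬ IsMulCommutative S ∧
      Subgroup.centralizer (S : Set G) = ⊥)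
    (hidx : (⁅(P : Subgroup G), (P : Subgroup G)⁆).relIndex (P : Subgroup G) = p ^ 2) :
    ∃ x : G, (∃ k : ℕ, orderOf x = p ^ k) ∧
      (Nat.card (centralizer ({x} : Set G))).factorization p = 2 := by
  by_cases hne' : ⁅(P : Subgroup G), (P : Subgroup G)⁆ = ⊥
  · refine ⟨1, ⟨0, by simp⟩, factorization_centralizer_eq_two P ⟨0, by simp⟩ fun g _ => ?_⟩
    rw [hne', relIndex_bot_left] at hidx
    have e : centralizer ({g⁻¹ * 1 * g} : Set G) = ⊤ := by
      ext y; simp [mem_centralizer_singleton_iff]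
    rw [e, inf_top_eq, hidx]
  haveI : Nontrivial G := by
    by_contra h
    rw [not_nontrivial_iff_subsingleton] at h
    exact hne' (Subgroup.eq_bot_of_subsingleton _)
  obtain ⟨N, hmin⟩ := CfsgLib.Base.exists_isMinimalNormal (G := G)
  haveI := hmin.normal
  have hab := abelian_inf_of_minimal P hcore hcore' hnas hidx hne' hmin
  obtain ⟨hP'Q, hcases, u, hu, hgen, -⟩ := exists_gen P hcore hcore' hidx hmin.ne_bot
  set Q := (P : Subgroup G) ⊓ N with hQ
  have hidx1 : Q.relIndex (P : Subgroup G) = p := hcases.resolve_left fun h => hne' (by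
    rw [commutator_eq_bot_iff_le_centralizer]
    exact fun a ha => mem_centralizer_iff.2 fun b hb =>
      hab b (relIndex_eq_one.1 h hb) a (relIndex_eq_one.1 h ha))
  have hQn : (P : Subgroup G) ≤ normalizer (Q : Set G) := fun b hb => mem_normalizer_fintype
    fun q hq => mem_inf.2 ⟨mul_mem (mul_mem hb hq.1) (inv_mem hb),
      hmin.normal.conj_mem q hq.2 b⟩
  refine ⟨u, (P.2 ⟨u, hu⟩).elim fun k hk => ?_, ?_⟩
  · exact ⟨_, ((Nat.dvd_prime_pow hp.out).1 (orderOf_dvd_of_pow_eq_one
      (congrArg Subtype.val hk))).choose_spec.2⟩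
  have hcount : ∀ w ∈ (P : Subgroup G), w ∉ Q →
      Nat.card ((P : Subgroup G) ⊓ centralizer ({w} : Set G) : Subgroup G) = p ^ 2 := by
    intro w hw hwQ
    have hwgen : (P : Subgroup G) ≤ zpowers w ⊔ Q := by
      have hle : Q ≤ zpowers w ⊔ Q := le_sup_right
      have hWP : zpowers w ⊔ Q ≤ (P : Subgroup G) := sup_le (zpowers_le.2 hw) inf_le_left
      have h := relIndex_mul_relIndex _ _ _ hle hWP
      rw [hidx1] at h
      rcases hp.out.eq_one_or_self_of_dvd _ (Dvd.intro _ h) with h3 | h3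
      · exact absurd (relIndex_eq_one.1 h3 (mem_sup_left (mem_zpowers w))) hwQ
      · rw [h3] at h
        exact relIndex_eq_one.1 (Nat.eq_of_mul_eq_mul_left hp.out.pos (by rw [h, mul_one]))
    have hwc : ∀ q ∈ Q, w * q * w⁻¹ ∈ Q := fun q hq => (mem_normalizer_iff.1 (hQn hw) q).1 hq
    let ψ : Q →* G := MonoidHom.mk' (fun q => (q : G) * (w * (q : G)⁻¹ * w⁻¹)) fun a b => by
      have h1 : (b : G) * (w * (a : G)⁻¹ * w⁻¹) = (w * (a : G)⁻¹ * w⁻¹) * b :=
        hab _ b.2 _ (hwc _ (inv_mem a.2))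
      calc ((a * b : Q) : G) * (w * ((a * b : Q) : G)⁻¹ * w⁻¹)
          = a * ((b : G) * ((w * (b : G)⁻¹ * w⁻¹) * (w * (a : G)⁻¹ * w⁻¹))) := by
            simp only [coe_mul]; group
        _ = a * ((b : G) * ((w * (a : G)⁻¹ * w⁻¹) * (w * (b : G)⁻¹ * w⁻¹))) := by
            rw [hab _ (hwc _ (inv_mem b.2)) _ (hwc _ (inv_mem a.2))]
        _ = a * ((((w * (a : G)⁻¹ * w⁻¹) * b)) * (w * (b : G)⁻¹ * w⁻¹)) := by
            rw [← h1]; group
        _ = _ := by group
    have hψ : ∀ q : Q, ψ q = ⁅(q : G), w⁆ := fun q => by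
      simp only [ψ, MonoidHom.mk'_apply, commutatorElement_def]; group
    have hrle : ψ.range ≤ ⁅(P : Subgroup G), (P : Subgroup G)⁆ := by
      rintro _ ⟨q, rfl⟩
      rw [hψ]
      exact commutator_mem_commutator q.2.1 hw
    have hrQ : ψ.range ≤ Q := hrle.trans hP'Q
    have hler : ⁅(P : Subgroup G), (P : Subgroup G)⁆ ≤ ψ.range := by
      refine commutator_le_of hw hwgen inf_le_left hrQ
        (fun b hb q hq => (mem_normalizer_iff.1 (hQn hb) q).1 hq)
        (comm_mem hw hQn hwgen (fun b hb => mem_normalizer_fintype fun k hk => ?_)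
          (mem_normalizer_fintype fun k hk => ?_) (fun q hq => ⟨⟨q, hq⟩, hψ _⟩)
          fun q hq r hr => ?_)
      · rw [SetLike.mem_coe] at hk ⊢
        rw [hab b hb k (hrQ hk), mul_inv_cancel_right]
        exact hk
      · obtain ⟨q, rfl⟩ := hk
        refine ⟨⟨_, hwc q q.2⟩, ?_⟩
        simp only [ψ, MonoidHom.mk'_apply]
        group
      · rw [commutatorElement_eq_one_iff_mul_comm.2 (hab q hq r hr)]
        exact one_mem _
    have hr : ψ.range = ⁅(P : Subgroup G), (P : Subgroup G)⁆ := le_antisymm hrle hler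
    have hcardker : Nat.card ψ.ker = p := by
      have h1 := relIndex_mul_relIndex ⊥ _ _ bot_le (hP'Q.trans inf_le_left : _ ≤ (P : Subgroup G))
      have h2 := relIndex_mul_relIndex ⊥ Q _ bot_le (inf_le_left : Q ≤ (P : Subgroup G))
      have h3 := ψ.ker.card_mul_index
      rw [index_ker, hr] at h3
      simp only [relIndex_bot_left] at h1 h2
      rw [hidx, ← h2, hidx1, ← h3] at h1
      have h4 := Nat.eq_of_mul_eq_mul_left (Nat.card_pos (α := ↥⁅(P : Subgroup G), (P : Subgroup G)⁆))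
        (show Nat.card ↥⁅(P : Subgroup G), (P : Subgroup G)⁆ * (p * p) =
          Nat.card ↥⁅(P : Subgroup G), (P : Subgroup G)⁆ * (Nat.card ψ.ker * p) by
          rw [← sq, h1]; ring)
      exact (Nat.eq_of_mul_eq_mul_right hp.out.pos h4).symm
    set X := (P : Subgroup G) ⊓ centralizer ({w} : Set G) with hX
    have hkerX : Q ⊓ X = ψ.ker.map Q.subtype := by
      ext y
      refine ⟨fun hy => mem_map.2 ⟨⟨y, hy.1⟩, ?_, rfl⟩, ?_⟩
      · rw [MonoidHom.mem_ker, hψ]
        exact commutatorElement_eq_one_iff_mul_comm.2 (mem_centralizer_singleton_iff.1 hy.2.2)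
      · rintro ⟨q, hq, rfl⟩
        have := (MonoidHom.mem_ker.1 hq)
        rw [hψ, commutatorElement_eq_one_iff_mul_comm] at this
        exact ⟨q.2, q.2.1, mem_centralizer_singleton_iff.2 this⟩
    have hlow : Nat.card (Q ⊓ X : Subgroup G) = p := by
      rw [hkerX, card_map_of_injective Q.subtype_injective, hcardker]
    have h := relIndex_mul_relIndex ⊥ (Q ⊓ X) X bot_le inf_le_right
    rw [relIndex_bot_left, relIndex_bot_left, hlow, inf_relIndex_right] at h
    have hle : Q.relIndex X ≤ p := hidx1 ▸ relIndex_le_of_le_right inf_le_left (relIndex_ne_zero' _ _)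
    obtain ⟨j, hj⟩ := (P.2.to_le (inf_le_left : X ≤ _)).index (Q.subgroupOf X)
    rw [show (Q.subgroupOf X).index = Q.relIndex X from rfl] at hj
    have hne1 : Q.relIndex X ≠ 1 := fun h1 =>
      hwQ (relIndex_eq_one.1 h1 ⟨hw, mem_centralizer_singleton_iff.2 rfl⟩)
    obtain rfl : j = 1 := by
      rw [hj] at hne1 hle
      have : j ≤ 1 := (Nat.pow_le_pow_iff_right hp.out.one_lt).1 (by simpa using hle)
      rcases Nat.eq_zero_or_pos j with rfl | hpos
      · exact absurd (pow_zero p) hne1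
      · omega
    rw [← h, hj, pow_one, sq]
  refine factorization_centralizer_eq_two P ((P.2 ⟨u, hu⟩).elim fun k hk =>
    ⟨_, ((Nat.dvd_prime_pow hp.out).1 (orderOf_dvd_of_pow_eq_one
      (congrArg Subtype.val hk))).choose_spec.2⟩) fun g hg => hcount _ hg fun hgQ => ?_
  have huN : u ∈ N := by simpa [mul_assoc] using hmin.normal.conj_mem _ hgQ.2 g
  have h1 : (P : Subgroup G) ≤ Q :=
    hgen.trans (sup_le (zpowers_le.2 ⟨hu, huN⟩) le_rfl)
  rw [relIndex_eq_one.2 h1] at hidx1
  exact hp.out.one_lt.ne hidx1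

theorem iff_main (P : Sylow p G) (hbig : p ^ 2 ∣ Nat.card G) (hcore : pPrimeCore p G = ⊥)
    (hcore' : (⁅(P : Subgroup G), (P : Subgroup G)⁆).normalCore = ⊥)
    (hnas : ¬ ∃ S : Subgroup G, S.Normal ∧ IsSimpleGroup S ∧ ¬ IsMulCommutative S ∧
      Subgroup.centralizer (S : Set G) = ⊥) :
    (⁅(P : Subgroup G), (P : Subgroup G)⁆).relIndex (P : Subgroup G) = p ^ 2 ↔
      ∃ x : G, (∃ k : ℕ, orderOf x = p ^ k) ∧
        (Nat.card (centralizer ({x} : Set G))).factorization p = 2 := by
  refine ⟨exists_element P hbig hcore hcore' hnas, ?_⟩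
  rintro ⟨x, ⟨k, hk⟩, hx⟩
  obtain ⟨T, hT⟩ := (IsPGroup.of_card (p := p) (G := zpowers x) (n := k)
    (by rw [Nat.card_zpowers, hk])).exists_le_sylow
  obtain ⟨g, rfl⟩ := MulAction.exists_smul_eq G P T
  obtain ⟨y, hy, hyx⟩ := mem_map.1 (show x ∈ (P : Subgroup G).map (MulAut.conj g).toMonoidHom from by
    have := hT (mem_zpowers x)
    rwa [Sylow.coe_subgroup_smul] at this)
  set X := (P : Subgroup G) ⊓ centralizer ({y} : Set G)
  have hmap : (centralizer ({y} : Set G)).map (MulAut.conj g).toMonoidHom =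
      centralizer ({x} : Set G) := by
    ext z
    rw [mem_map_conj, mem_centralizer_singleton_iff, mem_centralizer_singleton_iff, ← hyx]
    simp only [MulEquiv.coe_toMonoidHom, MulAut.conj_apply]
    constructor <;> intro e
    · have := congrArg (fun w => g * w * g⁻¹) e
      simpa [mul_assoc] using this
    · have := congrArg (fun w => g⁻¹ * w * g) e
      simpa [mul_assoc] using this
  have hcardC : Nat.card (centralizer ({y} : Set G)) = Nat.card (centralizer ({x} : Set G)) := by
    rw [← hmap, card_map_of_injective (f := (MulAut.conj g).toMonoidHom) (MulAut.conj g).injective]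
  obtain ⟨a, ha⟩ := (P.2.to_le (inf_le_left : X ≤ _)).exists_card_eq
  have ha2 : a ≤ 2 := by
    rw [← hx, ← hcardC]
    exact (hp.out.pow_dvd_iff_le_factorization Nat.card_pos.ne').1
      (ha ▸ card_dvd_of_le inf_le_right)
  have hup : (⁅(P : Subgroup G), (P : Subgroup G)⁆).relIndex (P : Subgroup G) ≤ p ^ 2 :=
    (relIndex_commutator_le hy).trans (ha.le.trans (Nat.pow_le_pow_right hp.out.pos ha2))
  obtain ⟨j, hj⟩ := P.2.index ((⁅(P : Subgroup G), (P : Subgroup G)⁆).subgroupOf (P : Subgroup G))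
  rw [show ((⁅(P : Subgroup G), (P : Subgroup G)⁆).subgroupOf (P : Subgroup G)).index =
    (⁅(P : Subgroup G), (P : Subgroup G)⁆).relIndex (P : Subgroup G) from rfl] at hj
  rw [hj] at hup ⊢
  have hj2 : j ≤ 2 := (Nat.pow_le_pow_iff_right hp.out.one_lt).1 hup
  congr 1
  by_contra hne
  have hab := comm_of_relIndex_le P.2 (hj.le.trans
    ((Nat.pow_le_pow_right hp.out.pos (show j ≤ 1 by omega)).trans (pow_one p).le))
  have hD : ⁅(P : Subgroup G), (P : Subgroup G)⁆ = ⊥ := by
    rw [commutator_eq_bot_iff_le_centralizer]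
    exact fun a ha => mem_centralizer_iff.2 fun b hb => hab b hb a ha
  rw [hD, relIndex_bot_left, P.card_eq_multiplicity] at hj
  have h2 := (hp.out.pow_dvd_iff_le_factorization Nat.card_pos.ne').1 hbig
  have := Nat.pow_right_injective hp.out.two_le hj
  omega

end CfsgLib.MaxClassCent
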